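import Mathlib.RingTheory.Smooth.IntegralClosure
import Mathlib.RingTheory.Etale.Basic
import Mathlib.RingTheory.Spectrum.Prime.Homeomorph
import Mathlib.RingTheory.Polynomial.ScaleRoots
import Mathlib.RingTheory.MvPolynomial.Ideal
import Mathlib.RingTheory.Localization.BaseChange
import Mathlib.Algebra.MvPolynomial.Nilpotent
import Mathlib.RingTheory.Flat.Basic
import Mathlib.RingTheory.Smooth.Flat
import Mathlib.RingTheory.Flat.TorsionFree

/-!
# Clopen sets extend over coordinate hyperplanes in étale algebras over polynomial rings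

`A` a commutative ring, `P = A[X_i]_{i ∈ σ}`, `B` an étale `P`-algebra, `s` a finite set of indices,
`t = ∏_{i ∈ s} X_i`.  Then `t` is a nonzerodivisor on `B` and every subset of `D(t) ⊆ Spec B` which is
open and closed in `D(t)` is the trace of a clopen subset of `Spec B`.
-/

set_option autoImplicit false

namespace Groth.Agent.Pi1.H404.AlgCore

open TensorProduct

section Poly

variable {A : Type*} [CommRing A] {σ : Type*}

open Classical in
/-- Evaluation at `X_i = 0`. -/
noncomputable def kill (A : Type*) [CommRing A] {σ : Type*} (i : σ) :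
    MvPolynomial σ A →ₐ[A] MvPolynomial σ A :=
  MvPolynomial.aeval (fun j => if j = i then 0 else MvPolynomial.X j)

theorem kill_X (i : σ) : kill A i (MvPolynomial.X i) = 0 := by
  simp [kill]

theorem X_dvd_sub_kill (i : σ) (p : MvPolynomial σ A) : MvPolynomial.X i ∣ p - kill A i p := by
  classical
  induction p using MvPolynomial.induction_on with
  | C a => simp [kill, MvPolynomial.algebraMap_eq]
  | add p q hp hq =>
    rw [map_add, add_sub_add_comm]
    exact dvd_add hp hq
  | mul_X p j hp =>
    rw [map_mul]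
    have h : p * MvPolynomial.X j - kill A i p * kill A i (MvPolynomial.X j) =
        (p - kill A i p) * MvPolynomial.X j +
          kill A i p * (MvPolynomial.X j - kill A i (MvPolynomial.X j)) := by ring
    rw [h]
    refine dvd_add (Dvd.dvd.mul_right hp _) (Dvd.dvd.mul_left ?_ _)
    by_cases hj : j = i
    · subst hj
      rw [kill_X, sub_zero]
    · simp [kill, hj]

theorem X_dvd_iff (i : σ) (p : MvPolynomial σ A) : MvPolynomial.X i ∣ p ↔ kill A i p = 0 := by
  constructor
  · rintro ⟨q, rfl⟩
    rw [map_mul, kill_X, zero_mul]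
  · intro h
    have := X_dvd_sub_kill i p
    rwa [h, sub_zero] at this

theorem X_dvd_of_dvd_pow [IsReduced A] (i : σ) (p : MvPolynomial σ A) (m : ℕ)
    (h : MvPolynomial.X i ∣ p ^ m) : MvPolynomial.X i ∣ p := by
  rw [X_dvd_iff] at h ⊢
  rw [map_pow] at h
  exact eq_zero_of_pow_eq_zero (n := m) h

theorem X_mem_nonZeroDivisors (i : σ) :
    (MvPolynomial.X i : MvPolynomial σ A) ∈ nonZeroDivisors (MvPolynomial σ A) := by
  rw [mem_nonZeroDivisors_iff_right]
  intro x hx
  ext m
  have := congrArg (MvPolynomial.coeff (m + Finsupp.single i 1)) hx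
  rwa [MvPolynomial.coeff_mul_X, MvPolynomial.coeff_zero] at this

end Poly

section Integral

variable {P : Type*} [CommRing P] {L : Type*} [CommRing L] [Algebra P L]

/-- If `y` is integral over `P`, `y * a = p` with `P → L` injective, then `a` divides a power of
`p`. -/
theorem dvd_pow_of_isIntegral (hinj : Function.Injective (algebraMap P L)) {y : L}
    (hy : IsIntegral P y) (a p : P) (h : algebraMap P L a * y = algebraMap P L p) :
    ∃ m, a ∣ p ^ m := by
  obtain ⟨f, hf, hf0⟩ := hy
  refine ⟨f.natDegree, ?_⟩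
  have h1 : Polynomial.eval₂ (algebraMap P L) (algebraMap P L a * y) (f.scaleRoots a) = 0 :=
    Polynomial.scaleRoots_eval₂_eq_zero _ hf0
  have h2 : Polynomial.eval₂ (RingHom.id P) p (f.scaleRoots a) = 0 := by
    apply hinj
    rw [Polynomial.hom_eval₂, RingHom.comp_id, ← h, h1, map_zero]
  have h3 : (f.scaleRoots a).map (Ideal.Quotient.mk (Ideal.span {a})) =
      Polynomial.X ^ f.natDegree := by
    ext i
    rw [Polynomial.coeff_map, Polynomial.coeff_scaleRoots, Polynomial.coeff_X_pow]
    split_ifs with hi
    · subst hi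
      rw [Nat.sub_self, pow_zero, mul_one]
      change Ideal.Quotient.mk _ f.leadingCoeff = 1
      rw [hf.leadingCoeff, map_one]
    · rcases lt_or_gt_of_ne hi with hlt | hgt
      · rw [Ideal.Quotient.eq_zero_iff_mem, Ideal.mem_span_singleton]
        refine Dvd.dvd.mul_left (dvd_pow_self a ?_) _
        omega
      · rw [Polynomial.coeff_eq_zero_of_natDegree_lt hgt, zero_mul, map_zero]
  have h4 := congrArg (Ideal.Quotient.mk (Ideal.span {a})) h2
  rw [map_zero, Polynomial.hom_eval₂, RingHom.comp_id, ← Polynomial.eval_map, h3,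
    Polynomial.eval_pow, Polynomial.eval_X, ← map_pow, Ideal.Quotient.eq_zero_iff_mem,
    Ideal.mem_span_singleton] at h4
  exact h4

/-- Removing radical nonzerodivisor denominators. -/
theorem mem_range_of_isIntegral_aux (hinj : Function.Injective (algebraMap P L)) {ι : Type*}
    (T : ι → P) (hU : ∀ i, IsUnit (algebraMap P L (T i)))
    (hrad : ∀ i p m, T i ∣ p ^ m → T i ∣ p) (l : List ι) (y : L) (hy : IsIntegral P y) (p : P)
    (h : algebraMap P L (l.map T).prod * y = algebraMap P L p) :
    y ∈ Set.range (algebraMap P L) := by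
  induction l generalizing p with
  | nil =>
    rw [List.map_nil, List.prod_nil, map_one, one_mul] at h
    exact ⟨p, h.symm⟩
  | cons i l ih =>
    rw [List.map_cons, List.prod_cons] at h
    obtain ⟨m, hm⟩ := dvd_pow_of_isIntegral hinj hy _ p h
    obtain ⟨p', rfl⟩ := hrad i p m (dvd_trans (dvd_mul_right _ _) hm)
    refine ih p' ?_
    rw [map_mul, map_mul, mul_assoc] at h
    exact (hU i).mul_left_cancel h

end Integral

section Main

variable {A : Type*} [CommRing A] {σ : Type*}

/-- The product of the coordinates in `s`. -/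
noncomputable abbrev tt (A : Type*) [CommRing A] {σ : Type*} (s : Finset σ) : MvPolynomial σ A :=
  ∏ i ∈ s, MvPolynomial.X i

theorem tt_mem_nonZeroDivisors (s : Finset σ) : tt A s ∈ nonZeroDivisors (MvPolynomial σ A) :=
  Submonoid.prod_mem _ fun i _ => X_mem_nonZeroDivisors i

/-- Over a reduced ring, the polynomial ring is integrally closed in its localization at a product
of coordinates. -/
theorem mem_range_of_isIntegral [IsReduced A] (s : Finset σ) (L : Type*) [CommRing L]
    [Algebra (MvPolynomial σ A) L] [IsLocalization.Away (tt A s) L] (y : L)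
    (hy : IsIntegral (MvPolynomial σ A) y) : y ∈ Set.range (algebraMap (MvPolynomial σ A) L) := by
  have hinj : Function.Injective (algebraMap (MvPolynomial σ A) L) :=
    IsLocalization.injective L (M := Submonoid.powers (tt A s))
      (Submonoid.powers_le.2 (tt_mem_nonZeroDivisors s))
  obtain ⟨⟨p, ⟨_, n, rfl⟩⟩, h⟩ := IsLocalization.surj (Submonoid.powers (tt A s)) y
  have key : ∃ l : List s, (l.map (fun i => (MvPolynomial.X i.1 : MvPolynomial σ A))).prod =
      tt A s ^ n := by
    refine ⟨((List.replicate n s.attach.toList).flatten), ?_⟩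
    rw [List.map_flatten, List.prod_flatten, List.map_replicate, List.map_replicate,
      List.prod_replicate]
    congr 1
    rw [Finset.prod_map_toList, Finset.prod_attach s (fun i => (MvPolynomial.X i : MvPolynomial σ A))]
  obtain ⟨l, hl⟩ := key
  refine mem_range_of_isIntegral_aux hinj (fun i : s => (MvPolynomial.X i.1 : MvPolynomial σ A))
    (fun i => ?_) (fun i p m => X_dvd_of_dvd_pow i.1 p m) l y hy
    p ?_
  · refine isUnit_of_dvd_unit ?_ (IsLocalization.Away.algebraMap_isUnit (S := L) (tt A s))
    exact map_dvd _ (Finset.dvd_prod_of_mem _ i.2)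
  · rw [hl, mul_comm]
    exact h

variable (B : Type*) [CommRing B] [Algebra (MvPolynomial σ A) B]

/-- The image in `B` of the product of the coordinates in `s`. -/
noncomputable abbrev ttB (A : Type*) [CommRing A] {σ : Type*} (s : Finset σ) (B : Type*) [CommRing B]
    [Algebra (MvPolynomial σ A) B] : B :=
  algebraMap (MvPolynomial σ A) B (tt A s)

theorem ttB_mem_nonZeroDivisors [Module.Flat (MvPolynomial σ A) B] (s : Finset σ) :
    ttB A s B ∈ nonZeroDivisors B := by
  rw [mem_nonZeroDivisors_iff_right]
  intro x hx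
  have h := Module.Flat.isSMulRegular_of_nonZeroDivisors (M := B) (tt_mem_nonZeroDivisors (A := A) s)
  apply h
  change tt A s • x = tt A s • (0 : B)
  rw [smul_zero, Algebra.smul_def, mul_comm]
  exact hx

/-- A smooth algebra `B` over a polynomial ring with reduced coefficient ring is integrally closed in
its localization at a product of coordinates. -/
theorem mem_range_of_isIntegral_smooth [IsReduced A] (s : Finset σ)
    [Algebra.Smooth (MvPolynomial σ A) B] (C : Type*) [CommRing C]
    [Algebra B C] [IsLocalization.Away (ttB A s B) C] (y : C)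
    (hy : IsIntegral B y) : y ∈ Set.range (algebraMap B C) := by
  let L := Localization.Away (tt A s)
  let e : C ≃ₐ[B] B ⊗[MvPolynomial σ A] L :=
    IsLocalization.algEquiv (Submonoid.powers (ttB A s B)) C _
  have h1 : IsIntegral B (e y) := hy.map e
  obtain ⟨w, hw⟩ := (TensorProduct.toIntegralClosure_bijective_of_smooth
    (R := MvPolynomial σ A) (S := B) (B := L)).2 ⟨e y, h1⟩
  have key : ∀ w : B ⊗[MvPolynomial σ A] integralClosure (MvPolynomial σ A) L,
      ((TensorProduct.toIntegralClosure (MvPolynomial σ A) B L w :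
        integralClosure B (B ⊗[MvPolynomial σ A] L)) : B ⊗[MvPolynomial σ A] L) ∈
        (⊥ : Subalgebra B (B ⊗[MvPolynomial σ A] L)) := by
    intro w
    induction w with
    | zero => simp
    | add x y hx hy =>
      rw [map_add]
      exact add_mem hx hy
    | tmul b z =>
      obtain ⟨p, hp⟩ := mem_range_of_isIntegral s L z.1 z.2
      change b ⊗ₜ[MvPolynomial σ A] z.1 ∈ _
      rw [← hp, Algebra.algebraMap_eq_smul_one, ← TensorProduct.smul_tmul]
      exact ⟨p • b, rfl⟩
  have h2 := key w
  rw [hw] at h2
  obtain ⟨b, hb⟩ := h2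
  refine ⟨b, ?_⟩
  apply e.injective
  rw [e.commutes]
  exact hb

open PrimeSpectrum in
/-- Extension of clopen sets, reduced coefficient ring. -/
theorem exists_clopen_of_isReduced [IsReduced A] (s : Finset σ)
    [Algebra.Smooth (MvPolynomial σ A) B] (Z : Set (PrimeSpectrum B)) (hZ : IsOpen Z)
    (hZ' : IsOpen ((basicOpen (ttB A s B) : Set (PrimeSpectrum B)) \ Z))
    (hZD : Z ⊆ basicOpen (ttB A s B)) :
    ∃ Z' : Set (PrimeSpectrum B), IsClopen Z' ∧ Z' ∩ basicOpen (ttB A s B) = Z := by
  let C := Localization.Away (ttB A s B)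
  have hr : Set.range (comap (algebraMap B C)) = basicOpen (ttB A s B) :=
    localization_away_comap_range C _
  have hinj : Function.Injective (algebraMap B C) :=
    IsLocalization.injective C (M := Submonoid.powers (ttB A s B))
      (Submonoid.powers_le.2 (ttB_mem_nonZeroDivisors B s))
  have hcl : IsClopen (comap (algebraMap B C) ⁻¹' Z) := by
    refine ⟨?_, hZ.preimage (continuous_comap _)⟩
    rw [← isOpen_compl_iff]
    have : (comap (algebraMap B C) ⁻¹' Z)ᶜ = comap (algebraMap B C) ⁻¹'
        ((basicOpen (ttB A s B) : Set (PrimeSpectrum B)) \ Z) := by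
      ext q
      simp only [Set.mem_compl_iff, Set.mem_preimage, Set.mem_sdiff, ← hr, Set.mem_range_self,
        true_and]
    rw [this]
    exact hZ'.preimage (continuous_comap _)
  obtain ⟨e, he, heZ⟩ := exists_idempotent_basicOpen_eq_of_isClopen hcl
  have hint : IsIntegral B e := by
    refine ⟨Polynomial.X ^ 2 - Polynomial.X, ?_, ?_⟩
    · apply Polynomial.monic_X_pow_sub
      exact Polynomial.degree_X_le.trans_lt (by exact_mod_cast one_lt_two)
    · simp [sq, he.eq]
  obtain ⟨e', rfl⟩ := mem_range_of_isIntegral_smooth (A := A) B s C e hint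
  have he' : IsIdempotentElem e' := by
    apply hinj
    rw [map_mul]
    exact he
  refine ⟨basicOpen e', ?_, ?_⟩
  · exact isClopen_basicOpen_of_mul_add e' (1 - e') (by rw [mul_sub, mul_one, he'.eq, sub_self])
      (by ring)
  · ext q
    constructor
    · rintro ⟨hq, hq'⟩
      rw [← hr] at hq'
      obtain ⟨q, rfl⟩ := hq'
      have : q ∈ (basicOpen (algebraMap B C e') : Set (PrimeSpectrum C)) := hq
      rw [← heZ] at this
      exact this
    · intro hq
      refine ⟨?_, hZD hq⟩
      have h1 := hZD hq
      rw [← hr] at h1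
      obtain ⟨q, rfl⟩ := h1
      have : q ∈ comap (algebraMap B C) ⁻¹' Z := hq
      rw [heZ] at this
      exact this

end Main

section General

open PrimeSpectrum

variable {A : Type*} [CommRing A] {σ : Type*} (B : Type*) [CommRing B]
  [Algebra (MvPolynomial σ A) B]

section NilBaseChange

variable {P P' : Type*} [CommRing P] [CommRing P'] [Algebra P P'] {B : Type*} [CommRing B]
  [Algebra P B]

/-- The map `B → P' ⊗ B` for a surjection `P → P'` with nil kernel. -/
noncomputable def toRed (P P' : Type*) [CommRing P] [CommRing P'] [Algebra P P'] (B : Type*)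
    [CommRing B] [Algebra P B] : B →+* P' ⊗[P] B :=
  (Algebra.TensorProduct.includeRight : B →ₐ[P] P' ⊗[P] B).toRingHom

theorem toRed_algebraMap (p : P) : toRed P P' B (algebraMap P B p) =
    algebraMap P' (P' ⊗[P] B) (algebraMap P P' p) := by
  refine ((Algebra.TensorProduct.includeRight : B →ₐ[P] P' ⊗[P] B).commutes p).trans ?_
  exact IsScalarTower.algebraMap_apply P P' (P' ⊗[P] B) p

theorem ker_toRed_le (hs : Function.Surjective (algebraMap P P'))
    (hk : ∀ p : P, algebraMap P P' p = 0 → IsNilpotent p) :
    RingHom.ker (toRed P P' B) ≤ nilradical B := by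
  intro b hb
  rw [nilradical_eq_sInf, Ideal.mem_sInf]
  rintro q (hq : q.IsPrime)
  let D := B ⧸ q
  have hD : IsDomain D := Ideal.Quotient.isDomain q
  let g : P →+* D := algebraMap P D
  have hg : ∀ p : P, algebraMap P P' p = 0 → g p = 0 := fun p hp =>
    ((hk p hp).map g).eq_zero
  let g' : P' →ₐ[P] D :=
    { toRingHom := RingHom.liftOfSurjective (algebraMap P P') hs ⟨g, hg⟩
      commutes' := fun r => RingHom.liftOfRightInverse_comp_apply _ _ _ ⟨g, hg⟩ r }
  let h : P' ⊗[P] B →ₐ[P] D := Algebra.TensorProduct.lift g' (IsScalarTower.toAlgHom P B D)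
    (fun x y => Commute.all _ _)
  have h1 : h (toRed P P' B b) = algebraMap B D b := by
    have : h (toRed P P' B b) = g' 1 * IsScalarTower.toAlgHom P B D b :=
      Algebra.TensorProduct.lift_tmul _ _ _ _ _
    rw [this, map_one, one_mul]
    rfl
  rw [show toRed P P' B b = 0 from hb, map_zero] at h1
  exact Ideal.Quotient.eq_zero_iff_mem.1 h1.symm

theorem isHomeomorph_comap_toRed (hs : Function.Surjective (algebraMap P P'))
    (hk : ∀ p : P, algebraMap P P' p = 0 → IsNilpotent p) :
    IsHomeomorph (comap (toRed P P' B)) := by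
  refine isHomeomorph_comap (toRed P P' B) (fun x => ⟨1, one_pos, ?_⟩) (ker_toRed_le hs hk)
  obtain ⟨y, hy⟩ := Algebra.TensorProduct.includeRight_surjective B hs x
  exact ⟨y, hy.trans (pow_one x).symm⟩

end NilBaseChange

instance isReduced_quotient_nilradical : IsReduced (A ⧸ nilradical A) :=
  (Ideal.isRadical_iff_quotient_reduced _).1 (Ideal.radical_isRadical _)

/-- The polynomial ring over the reduction, as an algebra. -/
noncomputable abbrev algPred (A : Type*) [CommRing A] (σ : Type*) :
    Algebra (MvPolynomial σ A) (MvPolynomial σ (A ⧸ nilradical A)) :=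
  (MvPolynomial.map (Ideal.Quotient.mk (nilradical A))).toAlgebra

theorem map_mk_surjective (A : Type*) [CommRing A] (σ : Type*) :
    Function.Surjective (MvPolynomial.map (σ := σ) (Ideal.Quotient.mk (nilradical A))) :=
  MvPolynomial.map_surjective _ Ideal.Quotient.mk_surjective

theorem isNilpotent_of_map_mk {p : MvPolynomial σ A}
    (hp : MvPolynomial.map (σ := σ) (Ideal.Quotient.mk (nilradical A)) p = 0) : IsNilpotent p := by
  rw [MvPolynomial.isNilpotent_iff]
  intro m
  have := congrArg (MvPolynomial.coeff m) hp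
  rw [MvPolynomial.coeff_map, MvPolynomial.coeff_zero, Ideal.Quotient.eq_zero_iff_mem] at this
  exact this

/-- Extension of clopen sets. -/
theorem exists_clopen (s : Finset σ)
    [Algebra.Smooth (MvPolynomial σ A) B] (Z : Set (PrimeSpectrum B)) (hZ : IsOpen Z)
    (hZ' : IsOpen ((basicOpen (ttB A s B) : Set (PrimeSpectrum B)) \ Z))
    (hZD : Z ⊆ basicOpen (ttB A s B)) :
    ∃ Z' : Set (PrimeSpectrum B), IsClopen Z' ∧ Z' ∩ basicOpen (ttB A s B) = Z := by
  let P := MvPolynomial σ A
  let A' := A ⧸ nilradical A
  let P' := MvPolynomial σ A'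
  let _ : Algebra P P' := algPred A σ
  let c := comap (toRed P P' B)
  have hc : IsHomeomorph c := isHomeomorph_comap_toRed (map_mk_surjective A σ)
    (fun p hp => isNilpotent_of_map_mk hp)
  have htt : toRed P P' B (ttB A s B) = ttB A' s (P' ⊗[P] B) := by
    refine (toRed_algebraMap (tt A s)).trans ?_
    have : algebraMap P P' (tt A s) = tt A' s := by
      change MvPolynomial.map _ _ = _
      simp [tt]
    rw [this]
  have hD : c ⁻¹' (basicOpen (ttB A s B) : Set (PrimeSpectrum B)) =
      basicOpen (ttB A' s (P' ⊗[P] B)) := by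
    rw [← htt]
    rfl
  obtain ⟨Z'', h1, h2⟩ := exists_clopen_of_isReduced (A := A') (σ := σ)
    (P' ⊗[P] B) s (c ⁻¹' Z) (hZ.preimage hc.continuous) (by
      rw [← hD, ← Set.preimage_sdiff]
      exact hZ'.preimage hc.continuous) (by
      rw [← hD]
      exact Set.preimage_mono hZD)
  refine ⟨c '' Z'', ?_, ?_⟩
  · exact ⟨hc.isClosedMap _ h1.1, hc.isOpenMap _ h1.2⟩
  · apply Set.preimage_injective.2 hc.surjective
    rw [Set.preimage_inter, Set.preimage_image_eq _ hc.injective, hD, h2]

/-- `D(t)` meets every nonempty open set. -/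
theorem exists_mem_basicOpen_inter (s : Finset σ) [Module.Flat (MvPolynomial σ A) B]
    (O : Set (PrimeSpectrum B)) (hO : IsOpen O) (hne : O.Nonempty) :
    (O ∩ (basicOpen (ttB A s B) : Set (PrimeSpectrum B))).Nonempty := by
  obtain ⟨x, hx⟩ := hne
  obtain ⟨_, ⟨b, rfl⟩, hxb, hb⟩ := isTopologicalBasis_basic_opens.exists_subset_of_mem_open hx hO
  by_contra hcon
  rw [Set.not_nonempty_iff_eq_empty] at hcon
  have h1 : (basicOpen (b * ttB A s B) : Set (PrimeSpectrum B)) = ∅ := by
    rw [basicOpen_mul, TopologicalSpace.Opens.coe_inf, Set.eq_empty_iff_forall_notMem]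
    rintro y ⟨hy1, hy2⟩
    exact (Set.eq_empty_iff_forall_notMem.1 hcon y) ⟨hb hy1, hy2⟩
  have h2 : IsNilpotent (b * ttB A s B) := by
    rw [← basicOpen_eq_bot_iff]
    exact TopologicalSpace.Opens.ext h1
  obtain ⟨n, hn⟩ := h2
  rw [mul_pow] at hn
  have h3 : b ^ n = 0 := by
    have h4 : ttB A s B ^ n ∈ nonZeroDivisors B := pow_mem (ttB_mem_nonZeroDivisors B s) n
    exact (mem_nonZeroDivisors_iff_right.1 h4) _ hn
  have h5 : basicOpen b = ⊥ := (basicOpen_eq_bot_iff b).2 ⟨n, h3⟩
  have h6 : x ∈ basicOpen b := hxb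
  rw [h5] at h6
  exact h6

end General

end Groth.Agent.Pi1.H404.AlgCore
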